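import Mathlib.LinearAlgebra.PiTensorProduct.Basis
import Mathlib.LinearAlgebra.Trace
import Mathlib.LinearAlgebra.Determinant
import Mathlib.LinearAlgebra.Matrix.Block
import Mathlib.LinearAlgebra.Eigenspace.Triangularizable
import Mathlib.LinearAlgebra.FiniteDimensional.Lemmas
import Mathlib.RingTheory.PowerSeries.Basic
import Mathlib.RingTheory.TensorProduct.Free
import Mathlib.RingTheory.MvPolynomial.Basic
import Mathlib.FieldTheory.IsAlgClosed.AlgebraicClosure
import Mathlib.Data.Sym.Basic
import Mathlib.Data.Finsupp.Multiset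
import Mathlib.Data.Fintype.Sigma

/-!
Traces on symmetric tensors: the generating series is the inverse of `det(1 - u t)`.
-/

set_option autoImplicit false
universe u v

open Polynomial

namespace Groth.L28.SymTrace

variable {ι : Type v} [Fintype ι] [DecidableEq ι]

/-- the multiset of values of a tuple -/
def cnt {n : ℕ} (f : Fin n → ι) : Sym ι n := ⟨Finset.univ.val.map f, by simp⟩

lemma cnt_surjective {n : ℕ} : Function.Surjective (cnt (ι := ι) (n := n)) := by
  rintro ⟨s, hs⟩
  induction s using Quotient.inductionOn with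
  | _ l =>
    have hl : l.length = n := hs
    subst hl
    refine ⟨l.get, Subtype.ext ?_⟩
    show Multiset.map l.get Finset.univ.val = (l : Multiset ι)
    simp [Fin.univ_def, ← List.ofFn_eq_map, List.ofFn_get]

/-- a chosen tuple -/
noncomputable def rep {n : ℕ} (s : Sym ι n) : Fin n → ι := (cnt_surjective s).choose

lemma cnt_rep {n : ℕ} (s : Sym ι n) : cnt (rep s) = s := (cnt_surjective s).choose_spec

lemma exists_perm {n : ℕ} (f g : Fin n → ι) (h : cnt f = cnt g) :
    ∃ σ : Equiv.Perm (Fin n), g = f ∘ σ := by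
  have hc : ∀ a, Fintype.card {i // g i = a} = Fintype.card {i // f i = a} := fun a => by
    have := congrArg (fun s : Sym ι n => (s : Multiset ι).count a) h
    simp only [cnt, Sym.coe_mk, Multiset.count_map] at this
    rw [Fintype.card_subtype, Fintype.card_subtype]
    simpa [Finset.card_def, Finset.filter_val, eq_comm] using this.symm
  let e := fun a => Fintype.equivOfCardEq (hc a)
  refine ⟨((Equiv.sigmaFiberEquiv g).symm.trans (Equiv.sigmaCongrRight e)).trans (Equiv.sigmaFiberEquiv f),
    funext fun i => ?_⟩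
  exact ((e (g i) ⟨i, rfl⟩).2).symm

lemma cnt_comp {n : ℕ} (f : Fin n → ι) (σ : Equiv.Perm (Fin n)) : cnt (f ∘ σ) = cnt f := by
  refine Subtype.ext ?_
  show Finset.univ.val.map (f ∘ σ) = Finset.univ.val.map f
  rw [← Multiset.map_map, ← Equiv.coe_toEmbedding, ← Finset.map_val, Finset.map_univ_equiv]

/-- the trace on symmetric tensors, in terms of a matrix -/
noncomputable def P {R : Type u} [CommRing R] (n : ℕ) (U : Matrix ι ι R) : R :=
  ∑ s : Sym ι n, ∑ g ∈ Finset.univ.filter (fun g : Fin n → ι => cnt g = s), ∏ i, U (rep s i) (g i)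

/-- the generating series -/
noncomputable def S {R : Type u} [CommRing R] (U : Matrix ι ι R) : PowerSeries R :=
  PowerSeries.mk fun n => P n U

/-- `det(1 - U t)` -/
noncomputable def D {R : Type u} [CommRing R] (U : Matrix ι ι R) : R[X] :=
  (1 - (X : R[X]) • U.map C).det

lemma map_P {R : Type u} {R' : Type*} [CommRing R] [CommRing R'] (φ : R →+* R') (n : ℕ) (U : Matrix ι ι R) :
    φ (P n U) = P n (U.map φ) := by
  simp [P, map_sum, map_prod]

lemma map_D {R : Type u} {R' : Type*} [CommRing R] [CommRing R'] (φ : R →+* R') (U : Matrix ι ι R) :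
    (D U).map φ = D (U.map φ) := by
  rw [D, D, ← coe_mapRingHom, RingHom.map_det]
  congr 1
  ext1 i j
  by_cases h : i = j <;> simp [Matrix.one_apply, h]

/-- symmetric tensors -/
abbrev W (A : Type u) [CommRing A] (M : Type u) [AddCommGroup M] [Module A M] (n : ℕ) :
    Submodule A (PiTensorProduct A (fun _ : Fin n => M)) :=
  ⨅ σ : Equiv.Perm (Fin n),
    LinearMap.eqLocus ((PiTensorProduct.reindex A (fun _ : Fin n => M) σ).toLinearMap) LinearMap.id

section trace

variable {A : Type u} [CommRing A] {M : Type u} [AddCommGroup M] [Module A M]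

/-- the tensor basis -/
noncomputable abbrev pb (b : Module.Basis ι A M) (n : ℕ) :
    Module.Basis (Fin n → ι) A (PiTensorProduct A (fun _ : Fin n => M)) :=
  Basis.piTensorProduct fun _ => b

lemma reindex_pb (b : Module.Basis ι A M) {n : ℕ} (σ : Equiv.Perm (Fin n)) (f : Fin n → ι) :
    PiTensorProduct.reindex A (fun _ : Fin n => M) σ (pb b n f) = pb b n (f ∘ σ.symm) := by
  rw [Basis.piTensorProduct_apply, Basis.piTensorProduct_apply]
  exact PiTensorProduct.reindex_tprod σ _

lemma repr_reindex (b : Module.Basis ι A M) {n : ℕ} (σ : Equiv.Perm (Fin n))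
    (x : PiTensorProduct A (fun _ : Fin n => M)) (f : Fin n → ι) :
    (pb b n).repr (PiTensorProduct.reindex A (fun _ : Fin n => M) σ x) f = (pb b n).repr x (f ∘ σ) := by
  have : (Finsupp.lapply f).comp ((pb b n).repr.toLinearMap.comp
      (PiTensorProduct.reindex A (fun _ : Fin n => M) σ).toLinearMap) =
      (Finsupp.lapply (f ∘ σ)).comp (pb b n).repr.toLinearMap := by
    refine (pb b n).ext fun g => ?_
    simp only [LinearMap.comp_apply, LinearEquiv.coe_coe, Finsupp.lapply_apply]
    erw [reindex_pb, Module.Basis.repr_self, Module.Basis.repr_self]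
    rw [Finsupp.single_apply, Finsupp.single_apply]
    congr 1
    refine propext ⟨fun h => ?_, fun h => ?_⟩
    · rw [← h]; funext i; simp
    · rw [h]; funext i; simp
  exact LinearMap.congr_fun this x

lemma mem_W (b : Module.Basis ι A M) {n : ℕ} (x : PiTensorProduct A (fun _ : Fin n => M)) :
    x ∈ W A M n ↔ ∀ f g : Fin n → ι, cnt f = cnt g → (pb b n).repr x f = (pb b n).repr x g := by
  simp only [Submodule.mem_iInf, LinearMap.mem_eqLocus, LinearEquiv.coe_coe, LinearMap.id_apply]
  constructor
  · intro h f g hfg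
    obtain ⟨σ, rfl⟩ := exists_perm f g hfg
    rw [← repr_reindex b σ x f, h σ]
  · intro h σ
    refine (pb b n).ext_elem fun f => ?_
    rw [repr_reindex]
    exact h _ _ (cnt_comp f σ)

/-- coordinates of symmetric tensors -/
noncomputable def coord (b : Module.Basis ι A M) (n : ℕ) : W A M n ≃ₗ[A] (Sym ι n → A) where
  toFun x s := (pb b n).repr x (rep s)
  map_add' x y := by ext s; simp
  map_smul' r x := by ext s; simp
  invFun c := ⟨∑ f, c (cnt f) • pb b n f, (mem_W b _).2 fun f g hfg => by
    rw [Module.Basis.repr_sum_self]; exact congrArg c hfg⟩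
  left_inv x := by
    refine Subtype.ext ((pb b n).ext_elem fun f => ?_)
    show (pb b n).repr (∑ g, _ • pb b n g) f = _
    rw [Module.Basis.repr_sum_self]
    exact (mem_W b _).1 x.2 _ _ (cnt_rep (cnt f))
  right_inv c := by
    funext s
    show (pb b n).repr (∑ g, _ • pb b n g) (rep s) = _
    rw [Module.Basis.repr_sum_self, cnt_rep]

lemma repr_map (b : Module.Basis ι A M) (u : M →ₗ[A] M) {n : ℕ} (f g : Fin n → ι) :
    (pb b n).repr (PiTensorProduct.map (fun _ : Fin n => u) (pb b n g)) f =
      ∏ i, LinearMap.toMatrix b b u (f i) (g i) := by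
  rw [Basis.piTensorProduct_apply, PiTensorProduct.map_tprod, Basis.piTensorProduct_repr_tprod_apply]
  simp [LinearMap.toMatrix_apply]

theorem trace_eq_P (b : Module.Basis ι A M) (u : M →ₗ[A] M) (n : ℕ) (γ : W A M n →ₗ[A] W A M n)
    (hγ : ∀ x : W A M n, (γ x : PiTensorProduct A (fun _ : Fin n => M)) =
      PiTensorProduct.map (fun _ : Fin n => u) x) :
    LinearMap.trace A (W A M n) γ = P n (LinearMap.toMatrix b b u) := by
  rw [← LinearMap.trace_conj' γ (coord b n), LinearMap.trace_eq_matrix_trace A (Pi.basisFun A (Sym ι n)),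
    Matrix.trace]
  refine Finset.sum_congr rfl fun s _ => ?_
  rw [Matrix.diag, LinearMap.toMatrix_apply, Pi.basisFun_apply, Pi.basisFun_repr]
  show (pb b n).repr (γ ((coord b n).symm (Pi.single s 1)) : PiTensorProduct A (fun _ : Fin n => M)) (rep s) = _
  rw [hγ]
  show (pb b n).repr (PiTensorProduct.map (fun _ : Fin n => u)
    (∑ g, (Pi.single s (1 : A) : Sym ι n → A) (cnt g) • pb b n g)) (rep s) = _
  rw [Finset.sum_filter]
  simp only [map_sum, map_smul, Finsupp.coe_finsetSum, Finset.sum_apply, Finsupp.smul_apply, repr_map,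
    Pi.single_apply, ite_smul, one_smul, zero_smul]
  refine Finset.sum_congr rfl fun g _ => ?_
  split_ifs <;> simp [repr_map, LinearMap.toMatrix_apply]

theorem exists_gamma (b : Module.Basis ι A M) (u : M →ₗ[A] M) (n : ℕ) :
    ∃ γ : W A M n →ₗ[A] W A M n, ∀ x : W A M n,
      (γ x : PiTensorProduct A (fun _ : Fin n => M)) = PiTensorProduct.map (fun _ : Fin n => u) x := by
  refine ⟨((PiTensorProduct.map (fun _ : Fin n => u)).comp (W A M n).subtype).codRestrict _ fun x => ?_,
    fun _ => rfl⟩
  simp only [Submodule.mem_iInf, LinearMap.mem_eqLocus, LinearEquiv.coe_coe, LinearMap.id_apply,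
    LinearMap.comp_apply, Submodule.subtype_apply]
  intro σ
  have hx : PiTensorProduct.reindex A (fun _ : Fin n => M) σ (x : PiTensorProduct A _) = x :=
    (Submodule.mem_iInf _).1 x.2 σ
  conv_rhs => rw [← hx]
  exact (PiTensorProduct.map_reindex (fun _ : Fin n => u) σ _).symm

theorem P_basis_indep {ι' : Type v} [Fintype ι'] [DecidableEq ι'] (b : Module.Basis ι A M)
    (b' : Module.Basis ι' A M) (u : M →ₗ[A] M) (n : ℕ) :
    P n (LinearMap.toMatrix b b u) = P n (LinearMap.toMatrix b' b' u) := by
  obtain ⟨γ, hγ⟩ := exists_gamma b u n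
  rw [← trace_eq_P b u n γ hγ, ← trace_eq_P b' u n γ hγ]

theorem D_eq_det (b : Module.Basis ι A M) (u : M →ₗ[A] M) :
    LinearMap.det (LinearMap.id - (X : A[X]) • u.baseChange A[X]) = D (LinearMap.toMatrix b b u) := by
  rw [← LinearMap.det_toMatrix (Algebra.TensorProduct.basis A[X] b)]
  refine congrArg Matrix.det (Matrix.ext fun i j => ?_)
  simp [LinearMap.toMatrix_apply, Matrix.one_apply, Finsupp.single_apply, eq_comm, Algebra.algebraMap_eq_smul_one,
    Polynomial.smul_eq_C_mul]

end trace

section triangular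

variable {K : Type u} [Field K]

theorem exists_triangular [IsAlgClosed K] : ∀ (m : ℕ) (V : Type u) [AddCommGroup V] [Module K V]
    [FiniteDimensional K V], Module.finrank K V = m → ∀ u : V →ₗ[K] V,
    ∃ b : Module.Basis (Fin m) K V, ∀ i j : Fin m, i < j → b.repr (u (b j)) i = 0 := by
  intro m
  induction m with
  | zero => exact fun V _ _ _ h u => ⟨Module.finBasisOfFinrankEq K V h, fun i => i.elim0⟩
  | succ m ih =>
    intro V _ _ _ h u
    haveI : Nontrivial V := Module.nontrivial_of_finrank_pos (R := K) (by omega)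
    obtain ⟨c, hc⟩ := Module.End.exists_eigenvalue u
    have hlt : LinearMap.range (u - c • LinearMap.id) ≠ ⊤ := fun htop => by
      obtain ⟨v, hv, hv0⟩ := hc.exists_hasEigenvector
      rw [LinearMap.range_eq_top, ← LinearMap.injective_iff_surjective] at htop
      refine hv0 (htop ?_)
      rw [map_zero, LinearMap.sub_apply, LinearMap.smul_apply, LinearMap.id_apply,
        Module.End.mem_eigenspace_iff.1 hv, sub_self]
    obtain ⟨f, hf0, hf⟩ := Submodule.exists_le_ker_of_lt_top _ (lt_top_iff_ne_top.2 hlt)
    let N := LinearMap.ker f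
    have hN : ∀ x ∈ N, u x ∈ N := fun x hx => by
      have := hf (LinearMap.mem_range_self (u - c • LinearMap.id) x)
      rw [LinearMap.mem_ker] at this hx ⊢
      simpa [hx] using this
    obtain ⟨y, hy⟩ : ∃ y, f y ≠ 0 := by
      by_contra! hall
      exact hf0 (LinearMap.ext hall)
    have hrank : Module.finrank K N = m := by
      have := LinearMap.finrank_range_add_finrank_ker f
      rw [LinearMap.range_eq_top.2 (LinearMap.surjective hf0), finrank_top, Module.finrank_self, h] at this
      show Module.finrank K (LinearMap.ker f) = m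
      omega
    obtain ⟨b, hb⟩ := ih N hrank (u.restrict hN)
    have hli : ∀ (r : K), ∀ x ∈ N, r • y + x = 0 → r = 0 := fun r x hx hrx => by
      have := congrArg f hrx
      rw [map_add, map_smul, LinearMap.mem_ker.1 hx, add_zero, map_zero, smul_eq_mul] at this
      exact (mul_eq_zero.1 this).resolve_right hy
    have hsp : ∀ z : V, ∃ r : K, z + r • y ∈ N := fun z => ⟨-(f z / f y), by
      rw [LinearMap.mem_ker, map_add, map_smul, smul_eq_mul]
      field_simp
      ring⟩
    let B := Module.Basis.mkFinCons y b hli hsp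
    refine ⟨B, fun i j hij => ?_⟩
    obtain ⟨j, rfl⟩ := Fin.exists_succ_eq.2 (Fin.pos_iff_ne_zero.1 (lt_of_le_of_lt (Fin.zero_le i) hij))
    have hBs : ∀ k : Fin m, B k.succ = (b k : V) := fun k => by
      simp [B, Module.Basis.coe_mkFinCons]
    have hrepr : B.repr (u (B j.succ)) = Finsupp.cons 0 (b.repr (u.restrict hN (b j))) := by
      apply B.repr.symm.injective
      rw [LinearEquiv.symm_apply_apply, hBs, Module.Basis.repr_symm_apply, Finsupp.linearCombination_apply,
        Finsupp.sum_fintype _ _ (by simp), Fin.sum_univ_succ]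
      simp only [Finsupp.cons_zero, zero_smul, zero_add, Finsupp.cons_succ, hBs]
      conv_lhs => rw [← LinearMap.restrict_coe_apply u hN, ← b.sum_repr (u.restrict hN (b j))]
      push_cast
      rfl
    rw [hrepr]
    cases i using Fin.cases with
    | zero => exact Finsupp.cons_zero _ _
    | succ i => rw [Finsupp.cons_succ]; exact hb i j (Fin.succ_lt_succ_iff.1 hij)

lemma P_triangular {m : ℕ} {R : Type u} [CommRing R] (U : Matrix (Fin m) (Fin m) R)
    (hU : ∀ i j, i < j → U i j = 0) (n : ℕ) :
    P n U = ∑ s : Sym (Fin m) n, ((s : Multiset (Fin m)).map fun a => U a a).prod := by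
  refine Finset.sum_congr rfl fun s _ => ?_
  rw [Finset.sum_eq_single_of_mem (rep s) (by simp [cnt_rep])]
  · conv_rhs => rw [← cnt_rep s]
    show _ = ((Finset.univ.val.map (rep s)).map fun a => U a a).prod
    rw [Multiset.map_map]
    rfl
  · intro g hg hne
    have hsum : ∑ i, Fin.val (g i) = ∑ i, Fin.val (rep s i) := by
      have := congrArg (fun t : Sym (Fin m) n => ((t : Multiset (Fin m)).map fun a : Fin m => (a : ℕ)).sum)
        ((Finset.mem_filter.1 hg).2.trans (cnt_rep s).symm)
      simpa [cnt, Multiset.map_map, Function.comp_def, Finset.sum_map_val, List.sum_ofFn] using this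
    obtain ⟨i, hi⟩ : ∃ i, rep s i < g i := by
      by_contra! hall
      refine hne (funext fun i => Fin.ext ?_)
      exact (Finset.sum_eq_sum_iff_of_le fun j _ => Fin.le_def.1 (hall j)).1 hsum i (Finset.mem_univ i)
    exact Finset.prod_eq_zero (Finset.mem_univ i) (hU _ _ hi)

lemma geom (R : Type u) [CommRing R] (a : R) :
    (((1 - Polynomial.X * Polynomial.C a : R[X])) : PowerSeries R) * PowerSeries.mk (fun n => a ^ n) = 1 := by
  ext n
  rw [Polynomial.coe_sub, Polynomial.coe_one, Polynomial.coe_mul, Polynomial.coe_X, Polynomial.coe_C,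
    sub_mul, one_mul, mul_assoc, map_sub]
  cases n with
  | zero => simp
  | succ n => rw [PowerSeries.coeff_succ_X_mul]; simp [pow_succ']

lemma series_diag {R : Type u} [CommRing R] (d : ι → R) :
    ((∏ a, (1 - Polynomial.X * Polynomial.C (d a)) : R[X]) : PowerSeries R) *
      PowerSeries.mk (fun n => ∑ s : Sym ι n, ((s : Multiset ι).map d).prod) = 1 := by
  have : PowerSeries.mk (fun n => ∑ s : Sym ι n, ((s : Multiset ι).map d).prod) =
      ∏ a, PowerSeries.mk (fun n => d a ^ n) := by
    ext n
    rw [PowerSeries.coeff_prod, PowerSeries.coeff_mk]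
    refine Finset.sum_bij (fun s _ => Multiset.toFinsupp (s : Multiset ι)) ?_ ?_ ?_ ?_
    · intro s _
      rw [Finset.mem_finsuppAntidiag]
      refine ⟨?_, Finset.subset_univ _⟩
      rw [show (Finset.univ : Finset ι).sum ⇑(Multiset.toFinsupp (s : Multiset ι)) = ∑ a : ι, (s : Multiset ι).count a from rfl,
        Multiset.sum_count_eq_card fun a _ => Finset.mem_univ a]
      exact s.2
    · intro s _ t _ h
      exact Subtype.ext (Multiset.toFinsupp.injective h)
    · intro l hl
      refine ⟨⟨Finsupp.toMultiset l, ?_⟩, Finset.mem_univ _, Finsupp.toMultiset_toFinsupp l⟩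
      rw [Finsupp.card_toMultiset, Finsupp.sum_fintype _ _ (by simp)]
      exact (Finset.mem_finsuppAntidiag.1 hl).1
    · intro s _
      simp only [PowerSeries.coeff_mk, Multiset.toFinsupp_apply]
      rw [Finset.prod_multiset_map_count]
      exact Finset.prod_subset (Finset.subset_univ _) (fun a _ ha => by
        rw [Multiset.count_eq_zero.2 (by simpa using ha), pow_zero])
  rw [this, ← Polynomial.coeToPowerSeries.ringHom_apply, map_prod, ← Finset.prod_mul_distrib]
  exact Finset.prod_eq_one fun a _ => geom R (d a)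

theorem identity_field [IsAlgClosed K] {m : ℕ} (U : Matrix (Fin m) (Fin m) K) :
    (D U : PowerSeries K) * S U = 1 := by
  let u := Matrix.toLin' U
  obtain ⟨b, hb⟩ := exists_triangular m (Fin m → K) (by simp) u
  let T := LinearMap.toMatrix b b u
  have hT : ∀ i j, i < j → T i j = 0 := fun i j h =>
    (LinearMap.toMatrix_apply b b u i j).trans (hb i j h)
  have hU : U = LinearMap.toMatrix (Pi.basisFun K (Fin m)) (Pi.basisFun K (Fin m)) u := by
    rw [LinearMap.toMatrix_eq_toMatrix']
    exact (LinearMap.toMatrix'_toLin' U).symm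
  have hD : D U = D T := by
    rw [hU, ← D_eq_det, ← D_eq_det b]
  have hS : S U = PowerSeries.mk (fun n => ∑ s : Sym (Fin m) n, ((s : Multiset (Fin m)).map fun a => T a a).prod) := by
    refine PowerSeries.ext fun n => ?_
    rw [S, PowerSeries.coeff_mk, PowerSeries.coeff_mk, hU, P_basis_indep _ b u n, P_triangular T hT n]
  have hDT : D T = ∏ a, (1 - Polynomial.X * Polynomial.C (T a a)) := by
    refine (Matrix.det_of_isLowerTriangular _ (fun i j (h : i < j) => ?_)).trans ?_
    · show ((1 - (X : K[X]) • T.map C) : Matrix (Fin m) (Fin m) K[X]) i j = 0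
      simp [hT i j h, ne_of_lt h]
    · simp
  rw [hS, hD, hDT, series_diag]

end triangular

theorem identity {R : Type u} [CommRing R] {m : ℕ} (U : Matrix (Fin m) (Fin m) R) :
    (D U : PowerSeries R) * S U = 1 := by
  let Z := MvPolynomial (Fin m × Fin m) ℤ
  let G : Matrix (Fin m) (Fin m) Z := Matrix.of fun i j => MvPolynomial.X (i, j)
  have hG : (D G : PowerSeries Z) * S G = 1 := by
    let φ : Z →+* AlgebraicClosure (FractionRing Z) := algebraMap Z _
    have hφ : Function.Injective φ := by
      rw [show φ = (algebraMap (FractionRing Z) (AlgebraicClosure (FractionRing Z))).comp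
        (algebraMap Z (FractionRing Z)) from IsScalarTower.algebraMap_eq _ _ _]
      exact (algebraMap (FractionRing Z) _).injective.comp (IsFractionRing.injective _ _)
    apply PowerSeries.map_injective φ hφ
    rw [map_mul, map_one, ← Polynomial.polynomial_map_coe, map_D,
      show PowerSeries.map φ (S G) = S (G.map φ) from PowerSeries.ext fun n => by simp [S, map_P]]
    exact identity_field (G.map φ)
  let ψ : Z →+* R := MvPolynomial.eval₂Hom (Int.castRingHom R) fun p => U p.1 p.2
  have hU : G.map ψ = U := by ext1 i j; exact MvPolynomial.eval₂Hom_X' _ _ _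
  have := congrArg (PowerSeries.map ψ) hG
  rwa [map_mul, map_one, ← Polynomial.polynomial_map_coe, map_D,
    show PowerSeries.map ψ (S G) = S (G.map ψ) from PowerSeries.ext fun n => by simp [S, map_P], hU] at this

theorem main {A : Type u} [CommRing A] (M : Type u) [AddCommGroup M] [Module A M] [Module.Free A M]
    [Module.Finite A M] (u : M →ₗ[A] M) (γ : ∀ n, W A M n →ₗ[A] W A M n)
    (hγ : ∀ (n : ℕ) (x : W A M n), (γ n x : PiTensorProduct A (fun _ : Fin n => M)) =
      PiTensorProduct.map (fun _ : Fin n => u) x) :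
    ((LinearMap.det (LinearMap.id - (X : A[X]) • u.baseChange A[X]) : A[X]) : PowerSeries A) *
      PowerSeries.mk (fun n => LinearMap.trace A _ (γ n)) = 1 := by
  rcases subsingleton_or_nontrivial A with hA | hA
  · exact Subsingleton.elim _ _
  let b := Module.finBasis A M
  rw [D_eq_det b u, show PowerSeries.mk (fun n => LinearMap.trace A _ (γ n)) = S (LinearMap.toMatrix b b u) from
    PowerSeries.ext fun n => by simp [S, trace_eq_P b u n (γ n) (hγ n)]]
  exact identity _

end Groth.L28.SymTrace
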